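import Groth.Prelude.Def_Red
/-!
# Points of base changes: `(X ⟶ Red.bc f Y) ≃* (f_* X ⟶ Y)`
-/

set_option autoImplicit false
universe v₁ v₂ u₁ u₂ u

open CategoryTheory MonoidalCategory CartesianMonoidalCategory MonObj GrpObj AlgebraicGeometry
open CategoryTheory.Functor

namespace Groth.Agent.Lib.RedPts.BC

section General

variable {C : Type u₁} [Category.{v₁} C] [CartesianMonoidalCategory C]
  {D : Type u₂} [Category.{v₂} D] [CartesianMonoidalCategory D]
  {L : C ⥤ D} {R : D ⥤ C} [R.Monoidal] (adj : L ⊣ R)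

theorem homEquiv_lift {X : C} {M N : D} (g : L.obj X ⟶ M) (h : L.obj X ⟶ N) :
    adj.homEquiv X (M ⊗ N) (lift g h) =
      lift (adj.homEquiv X M g) (adj.homEquiv X N h) ≫ LaxMonoidal.μ R M N := by
  rw [← cancel_mono (Monoidal.μIso R M N).inv]
  ext <;> simp [← Adjunction.homEquiv_naturality_right]

theorem homEquiv_mul {X : C} {M : D} [MonObj M] (g h : L.obj X ⟶ M) :
    letI := R.monObjObj M
    adj.homEquiv X M (g * h) = adj.homEquiv X M g * adj.homEquiv X M h := by
  let := R.monObjObj M
  rw [Hom.mul_def, Adjunction.homEquiv_naturality_right, homEquiv_lift, Category.assoc]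
  rfl

end General

section Scheme

variable {S S' : Scheme.{u}} (f : S' ⟶ S)

/-- An `X`-point of `bc f Y` as a point of `Y`. -/
noncomputable def down {X : Over S'} {Y : Over S} (g : X ⟶ Red.bc f Y) :
    (Over.map f).obj X ⟶ Y :=
  ((Over.mapPullbackAdj f).homEquiv X Y).symm g

/-- A point of `Y` as an `X`-point of `bc f Y`. -/
noncomputable def up {X : Over S'} {Y : Over S} (g : (Over.map f).obj X ⟶ Y) :
    X ⟶ Red.bc f Y :=
  (Over.mapPullbackAdj f).homEquiv X Y g

variable {f}

theorem down_left {X : Over S'} {Y : Over S} (g : X ⟶ Red.bc f Y) :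
    (down f g).left = g.left ≫ Limits.pullback.fst _ _ := by
  rfl

@[simp] theorem down_up {X : Over S'} {Y : Over S} (g : (Over.map f).obj X ⟶ Y) :
    down f (up f g) = g := Equiv.symm_apply_apply _ _

@[simp] theorem up_down {X : Over S'} {Y : Over S} (g : X ⟶ Red.bc f Y) :
    up f (down f g) = g := Equiv.apply_symm_apply _ _

theorem down_injective {X : Over S'} {Y : Over S} :
    Function.Injective (down f : (X ⟶ Red.bc f Y) → _) := Equiv.injective _

theorem down_comp {X X' : Over S'} {Y : Over S} (h : X' ⟶ X) (g : X ⟶ Red.bc f Y) :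
    down f (h ≫ g) = (Over.map f).map h ≫ down f g :=
  Adjunction.homEquiv_naturality_left_symm _ _ _

theorem down_map {X : Over S'} {Y Y' : Over S} (g : X ⟶ Red.bc f Y) (φ : Y ⟶ Y') :
    down f (g ≫ (Over.pullback f).map φ) = down f g ≫ φ :=
  Adjunction.homEquiv_naturality_right_symm _ _ _

theorem up_mul {X : Over S'} {Y : Over S} [GrpObj Y] (g h : (Over.map f).obj X ⟶ Y) :
    up f (g * h) = up f g * up f h :=
  homEquiv_mul (Over.mapPullbackAdj f) g h

theorem down_mul {X : Over S'} {Y : Over S} [GrpObj Y] (g h : X ⟶ Red.bc f Y) :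
    down f (g * h) = down f g * down f h := by
  conv_lhs => rw [← up_down g, ← up_down h, ← up_mul, down_up]

variable (f) in
/-- Points of a base change, as an isomorphism of groups. -/
noncomputable def downMulEquiv (X : Over S') (Y : Over S) [GrpObj Y] :
    (X ⟶ Red.bc f Y) ≃* ((Over.map f).obj X ⟶ Y) where
  toFun := down f
  invFun := up f
  left_inv := up_down
  right_inv := down_up
  map_mul' := down_mul

@[simp] theorem down_one {X : Over S'} {Y : Over S} [GrpObj Y] :
    down f (1 : X ⟶ Red.bc f Y) = 1 := map_one (downMulEquiv f X Y)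

theorem down_inv {X : Over S'} {Y : Over S} [GrpObj Y] (g : X ⟶ Red.bc f Y) :
    down f g⁻¹ = (down f g)⁻¹ := map_inv (downMulEquiv f X Y) g

theorem down_eq_one {X : Over S'} {Y : Over S} [GrpObj Y] {g : X ⟶ Red.bc f Y} :
    down f g = 1 ↔ g = 1 := (downMulEquiv f X Y).map_eq_one_iff

end Scheme

end Groth.Agent.Lib.RedPts.BC
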