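import Groth.Prelude.Def_Red
/-!
# Points of `Spec` of a bialgebra with values in an arbitrary scheme over the base
-/

set_option autoImplicit false
universe u

open CategoryTheory MonoidalCategory CartesianMonoidalCategory MonObj AlgebraicGeometry
open WithConv

namespace Groth.Agent.Lib.RedPts.Points

variable {R : Type u} [CommRing R]

/-- The structure map `R → Γ(W, ⊤)` of a scheme over `Spec R`. -/
noncomputable def baseHom (W : Over (Spec (CommRingCat.of R))) : R →+* Γ(W.left, ⊤) :=
  ((Scheme.ΓSpecIso (CommRingCat.of R)).inv ≫ W.hom.appTop).hom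

/-- The algebra structure on the global functions of a scheme over `Spec R`. -/
@[reducible] noncomputable def baseAlgebra (W : Over (Spec (CommRingCat.of R))) :
    Algebra R Γ(W.left, ⊤) := (baseHom W).toAlgebra

attribute [local instance] baseAlgebra

/-- The affinisation `W ⟶ Spec Γ(W, ⊤)` over `Spec R`. -/
noncomputable def toSpec (W : Over (Spec (CommRingCat.of R))) :
    W ⟶ (Spec (CommRingCat.of Γ(W.left, ⊤))).asOver (Spec (CommRingCat.of R)) :=
  Over.homMk W.left.toSpecΓ <| by
    have h : W.left.toSpecΓ ≫ Spec.map ((Scheme.ΓSpecIso (CommRingCat.of R)).inv ≫ W.hom.appTop) =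
        W.hom := by
      rw [Spec.map_comp, ← Scheme.toSpecΓ_naturality_assoc, toSpecΓ_SpecMap_ΓSpecIso_inv,
        Category.comp_id]
    exact h

variable {A : Type u} [CommRing A]

/-- The ring homomorphism defined by a morphism to `Spec A`. -/
noncomputable def ringHomOf {W : Scheme.{u}} (g : W ⟶ Spec (CommRingCat.of A)) : A →+* Γ(W, ⊤) :=
  ((Scheme.ΓSpecIso (CommRingCat.of A)).inv ≫ g.appTop).hom

theorem ringHomOf_apply {W : Scheme.{u}} (g : W ⟶ Spec (CommRingCat.of A)) (a : A) :
    ringHomOf g a = g.appTop ((Scheme.ΓSpecIso (CommRingCat.of A)).inv a) := rfl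

theorem ringHomOf_comp {W W' : Scheme.{u}} (h : W' ⟶ W) (g : W ⟶ Spec (CommRingCat.of A)) (a : A) :
    ringHomOf (h ≫ g) a = h.appTop (ringHomOf g a) := by
  simp only [ringHomOf, Scheme.Hom.comp_appTop]
  rfl

theorem eq_toSpecΓ {W : Scheme.{u}} (g : W ⟶ Spec (CommRingCat.of A)) :
    g = W.toSpecΓ ≫ Spec.map (CommRingCat.ofHom (ringHomOf g)) := by
  have h : W.toSpecΓ ≫ Spec.map ((Scheme.ΓSpecIso (CommRingCat.of A)).inv ≫ g.appTop) = g := by
    rw [Spec.map_comp, ← Scheme.toSpecΓ_naturality_assoc, toSpecΓ_SpecMap_ΓSpecIso_inv,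
      Category.comp_id]
  exact h.symm

theorem ringHomOf_toSpecΓ {W : Scheme.{u}} (φ : A →+* Γ(W, ⊤)) :
    ringHomOf (W.toSpecΓ ≫ Spec.map (CommRingCat.ofHom φ)) = φ := by
  have h : (Scheme.ΓSpecIso (CommRingCat.of A)).inv ≫ (W.toSpecΓ ≫ Spec.map (CommRingCat.ofHom φ)).appTop =
      CommRingCat.ofHom φ := by
    rw [Scheme.Hom.comp_appTop, Scheme.toSpecΓ_appTop]
    erw [← Scheme.ΓSpecIso_inv_naturality_assoc]
    simp
  exact congrArg CommRingCat.Hom.hom h

theorem ringHomOf_algebraMap' [Algebra R A] (W : Over (Spec (CommRingCat.of R)))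
    (g : W.left ⟶ Spec (CommRingCat.of A))
    (h : g ≫ Spec.map (CommRingCat.ofHom (algebraMap R A)) = W.hom) (r : R) :
    ringHomOf g (algebraMap R A r) = algebraMap R Γ(W.left, ⊤) r := by
  change _ = baseHom W r
  simp only [baseHom, ← h, Scheme.Hom.comp_appTop]
  rw [← Scheme.ΓSpecIso_inv_naturality_assoc]
  rfl

variable [Bialgebra R A]

theorem ringHomOf_algebraMap {W : Over (Spec (CommRingCat.of R))}
    (g : W ⟶ (Spec (CommRingCat.of A)).asOver (Spec (CommRingCat.of R))) (r : R) :
    ringHomOf g.left (algebraMap R A r) = algebraMap R Γ(W.left, ⊤) r := by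
  exact ringHomOf_algebraMap' W g.left (Over.w g) r

/-- The algebra homomorphism defined by a point of `Spec A`. -/
noncomputable def algHomOf {W : Over (Spec (CommRingCat.of R))}
    (g : W ⟶ (Spec (CommRingCat.of A)).asOver (Spec (CommRingCat.of R))) : A →ₐ[R] Γ(W.left, ⊤) :=
  { ringHomOf g.left with commutes' := ringHomOf_algebraMap g }

theorem algHomOf_apply {W : Over (Spec (CommRingCat.of R))}
    (g : W ⟶ (Spec (CommRingCat.of A)).asOver (Spec (CommRingCat.of R))) (a : A) :
    algHomOf g a = ringHomOf g.left a := rfl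

/-- The point of `Spec A` defined by an algebra homomorphism. -/
noncomputable def pointOf {W : Over (Spec (CommRingCat.of R))} (φ : A →ₐ[R] Γ(W.left, ⊤)) :
    W ⟶ (Spec (CommRingCat.of A)).asOver (Spec (CommRingCat.of R)) :=
  toSpec W ≫ Spec.mapMulEquiv (R := R) (S := A) (T := Γ(W.left, ⊤)) (toConv φ)

theorem pointOf_left {W : Over (Spec (CommRingCat.of R))} (φ : A →ₐ[R] Γ(W.left, ⊤)) :
    (pointOf φ).left = W.left.toSpecΓ ≫ Spec.map (CommRingCat.ofHom φ.toRingHom) := rfl

@[simp] theorem algHomOf_pointOf {W : Over (Spec (CommRingCat.of R))} (φ : A →ₐ[R] Γ(W.left, ⊤)) :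
    algHomOf (pointOf φ) = φ :=
  AlgHom.coe_ringHom_injective (ringHomOf_toSpecΓ φ.toRingHom)

@[simp] theorem pointOf_algHomOf {W : Over (Spec (CommRingCat.of R))}
    (g : W ⟶ (Spec (CommRingCat.of A)).asOver (Spec (CommRingCat.of R))) :
    pointOf (algHomOf g) = g :=
  Over.OverMorphism.ext (eq_toSpecΓ g.left).symm

theorem algHomOf_injective {W : Over (Spec (CommRingCat.of R))} :
    Function.Injective (algHomOf : (W ⟶ (Spec (CommRingCat.of A)).asOver (Spec (CommRingCat.of R))) → _) :=
  Function.LeftInverse.injective pointOf_algHomOf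

theorem pointOf_mul {W : Over (Spec (CommRingCat.of R))} (φ ψ : A →ₐ[R] Γ(W.left, ⊤)) :
    pointOf φ * pointOf ψ = pointOf ((toConv φ * toConv ψ).ofConv) := by
  simp only [pointOf, toConv_ofConv, map_mul, MonObj.comp_mul]

theorem algHomOf_mul {W : Over (Spec (CommRingCat.of R))}
    (g h : W ⟶ (Spec (CommRingCat.of A)).asOver (Spec (CommRingCat.of R))) (a : A) :
    algHomOf (g * h) a = Algebra.TensorProduct.lift (algHomOf g) (algHomOf h) (fun _ _ ↦ .all ..)
      (Coalgebra.comul a) := by
  conv_lhs => rw [← pointOf_algHomOf g, ← pointOf_algHomOf h, pointOf_mul, algHomOf_pointOf]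
  exact AlgHom.convMul_apply (toConv (algHomOf g)) (toConv (algHomOf h)) a

theorem algHomOf_one {W : Over (Spec (CommRingCat.of R))} (a : A) :
    algHomOf (1 : W ⟶ (Spec (CommRingCat.of A)).asOver (Spec (CommRingCat.of R))) a =
      algebraMap R Γ(W.left, ⊤) (Coalgebra.counit a) := by
  have h : (1 : W ⟶ (Spec (CommRingCat.of A)).asOver (Spec (CommRingCat.of R))) =
      pointOf ((1 : WithConv (A →ₐ[R] Γ(W.left, ⊤))).ofConv) := by
    simp only [pointOf, toConv_ofConv, map_one, MonObj.comp_one]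
  rw [h, algHomOf_pointOf]
  exact AlgHom.convOne_apply (A := Γ(W.left, ⊤)) a

/-- Multiplication of points on group-like elements. -/
theorem ringHomOf_mul_of_isGroupLike {W : Over (Spec (CommRingCat.of R))}
    (g h : W ⟶ (Spec (CommRingCat.of A)).asOver (Spec (CommRingCat.of R))) {a : A}
    (ha : Coalgebra.comul (R := R) a = a ⊗ₜ[R] a) :
    ringHomOf (g * h).left a = ringHomOf g.left a * ringHomOf h.left a := by
  rw [← algHomOf_apply, algHomOf_mul, ha]
  simp [algHomOf_apply]

/-- Multiplication of points on primitive elements. -/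
theorem ringHomOf_mul_of_primitive {W : Over (Spec (CommRingCat.of R))}
    (g h : W ⟶ (Spec (CommRingCat.of A)).asOver (Spec (CommRingCat.of R))) {a : A}
    (ha : Coalgebra.comul (R := R) a = a ⊗ₜ[R] 1 + 1 ⊗ₜ[R] a) :
    ringHomOf (g * h).left a = ringHomOf g.left a + ringHomOf h.left a := by
  rw [← algHomOf_apply, algHomOf_mul, ha]
  simp [algHomOf_apply]

end Groth.Agent.Lib.RedPts.Points
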