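import Groth.Prelude.Def_Red2
import Groth.Agent.Lib.RedPts.Points
/-!
# Points of `Red.diag R M` and of `Spec` of a symmetric algebra over `Spec R`
-/

set_option autoImplicit false
universe u

open CategoryTheory MonoidalCategory CartesianMonoidalCategory MonObj AlgebraicGeometry
open Groth.Agent.Lib.RedPts

namespace Groth.Agent.Lib.RedPts.Affine

variable {R : Type u} [CommRing R] {M N : Type} [AddCommGroup M] [AddCommGroup N]

attribute [local instance] Points.baseAlgebra

/-- The value at `m : M` of a point of `D_R(M)`. -/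
noncomputable def diagFn {W : Over (Spec (CommRingCat.of R))} (g : W ⟶ Red.diag R M) (m : M) :
    Γ(W.left, ⊤) :=
  Points.algHomOf g (MonoidAlgebra.single (Multiplicative.ofAdd m) (1 : R))

theorem diagFn_mul {W : Over (Spec (CommRingCat.of R))} (g h : W ⟶ Red.diag R M) (m : M) :
    diagFn (g * h) m = diagFn g m * diagFn h m := by
  simp only [diagFn, Points.algHomOf_mul]
  simp

theorem diagFn_one {W : Over (Spec (CommRingCat.of R))} (m : M) :
    diagFn (1 : W ⟶ Red.diag R M) m = 1 := by
  simp only [diagFn, Points.algHomOf_one]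
  simp

theorem diagFn_zero {W : Over (Spec (CommRingCat.of R))} (g : W ⟶ Red.diag R M) :
    diagFn g 0 = 1 := map_one _

theorem diagFn_add {W : Over (Spec (CommRingCat.of R))} (g : W ⟶ Red.diag R M) (m n : M) :
    diagFn g (m + n) = diagFn g m * diagFn g n := by
  unfold diagFn
  rw [← map_mul, MonoidAlgebra.single_mul_single, _root_.mul_one, ← ofAdd_add]

theorem diagFn_ext {W : Over (Spec (CommRingCat.of R))} {g h : W ⟶ Red.diag R M}
    (H : ∀ m, diagFn g m = diagFn h m) : g = h := by
  apply Points.algHomOf_injective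
  refine MonoidAlgebra.algHom_ext (fun m => H m.toAdd) ?_
  ext

/-- The point of `D_R(M)` with prescribed values. -/
noncomputable def diagPt {W : Over (Spec (CommRingCat.of R))}
    (χ : Multiplicative M →* Γ(W.left, ⊤)) : W ⟶ Red.diag R M :=
  Points.pointOf (MonoidAlgebra.lift R _ _ χ)

@[simp] theorem diagFn_diagPt {W : Over (Spec (CommRingCat.of R))}
    (χ : Multiplicative M →* Γ(W.left, ⊤)) (m : M) :
    diagFn (diagPt χ) m = χ (Multiplicative.ofAdd m) := by
  unfold diagFn diagPt
  rw [Points.algHomOf_pointOf, MonoidAlgebra.lift_single, one_smul]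

theorem diagFn_comp {W W' : Over (Spec (CommRingCat.of R))} (h : W' ⟶ W) (g : W ⟶ Red.diag R M)
    (m : M) : diagFn (h ≫ g) m = h.left.appTop (diagFn g m) :=
  Points.ringHomOf_comp h.left _ _

theorem ringHomOf_specMap {A B : Type u} [CommRing A] [CommRing B] {W : Scheme.{u}}
    (g : W ⟶ Spec (CommRingCat.of B)) (ψ : A →+* B) (a : A) :
    Points.ringHomOf (g ≫ Spec.map (CommRingCat.ofHom ψ)) a = Points.ringHomOf g (ψ a) := by
  simp only [Points.ringHomOf, Scheme.Hom.comp_appTop]
  rw [← Scheme.ΓSpecIso_inv_naturality_assoc]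
  rfl

theorem diagFn_diagMap {W : Over (Spec (CommRingCat.of R))} (g : W ⟶ Red.diag R N) (φ : M →+ N)
    (m : M) : diagFn (g ≫ Red.diagMap R φ) m = diagFn g (φ m) := by
  refine (ringHomOf_specMap g.left _ _).trans ?_
  simp [diagFn, Points.algHomOf_apply]

/-- The coordinate of a point of `𝔾_a = Spec (Sym R)`. -/
noncomputable def symFn {W : Over (Spec (CommRingCat.of R))}
    (g : W ⟶ (Spec (CommRingCat.of (SymmetricAlgebra R R))).asOver (Spec (CommRingCat.of R))) :
    Γ(W.left, ⊤) :=
  Points.algHomOf g (SymmetricAlgebra.ι R R 1)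

theorem symFn_mul {W : Over (Spec (CommRingCat.of R))}
    (g h : W ⟶ (Spec (CommRingCat.of (SymmetricAlgebra R R))).asOver (Spec (CommRingCat.of R))) :
    symFn (g * h) = symFn g + symFn h := by
  simp only [symFn, Points.algHomOf_mul]
  simp

theorem symFn_injective {W : Over (Spec (CommRingCat.of R))} :
    Function.Injective (symFn : (W ⟶ (Spec (CommRingCat.of (SymmetricAlgebra R R))).asOver
      (Spec (CommRingCat.of R))) → Γ(W.left, ⊤)) := fun _ _ h =>
  Points.algHomOf_injective (SymmetricAlgebra.algHom_ext (LinearMap.ext_ring h))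

theorem symFn_surjective {W : Over (Spec (CommRingCat.of R))} :
    Function.Surjective (symFn : (W ⟶ (Spec (CommRingCat.of (SymmetricAlgebra R R))).asOver
      (Spec (CommRingCat.of R))) → Γ(W.left, ⊤)) := fun a =>
  ⟨Points.pointOf (SymmetricAlgebra.lift (LinearMap.toSpanSingleton R _ a)), by
    unfold symFn; rw [Points.algHomOf_pointOf, SymmetricAlgebra.lift_ι_apply]; simp⟩

end Groth.Agent.Lib.RedPts.Affine
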