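import Groth.Prelude.Def_Red2
import Groth.Agent.Lib.RedPts.BC
import Groth.Agent.Lib.RedPts.Affine
/-!
# Points of the additive group `Red.Ga S`
-/

set_option autoImplicit false
universe u

open CategoryTheory MonoidalCategory CartesianMonoidalCategory MonObj GrpObj AlgebraicGeometry
open Groth.Agent.Lib.RedPts

namespace Groth.Agent.Lib.RedPts.Ga

variable {S : Scheme.{u}}

theorem gaFn_eq {X : Over S} (x : X ⟶ Red.Ga S) :
    Red.gaFn x = Affine.symFn (BC.down _ x) := by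
  rw [Red.gaFn, Affine.symFn, Points.algHomOf_apply, BC.down_left]
  rfl

theorem gaFn_comp {X X' : Over S} (h : X' ⟶ X) (x : X ⟶ Red.Ga S) :
    Red.gaFn (h ≫ x) = h.left.appTop (Red.gaFn x) := by
  simp only [Red.gaFn, Over.comp_left, Category.assoc, Scheme.Hom.comp_appTop]
  rfl

theorem gaFn_mul {X : Over S} (x y : X ⟶ Red.Ga S) :
    Red.gaFn (x * y) = Red.gaFn x + Red.gaFn y := by
  simp only [gaFn_eq, BC.down_mul]
  exact Affine.symFn_mul _ _

/-- `gaFn` as a homomorphism. -/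
noncomputable def gaFnHom (X : Over S) : Additive (X ⟶ Red.Ga S) →+ Γ(X.left, ⊤) :=
  AddMonoidHom.mk' (fun x => Red.gaFn x.toMul) (fun x y => gaFn_mul x.toMul y.toMul)

theorem gaFn_one {X : Over S} : Red.gaFn (1 : X ⟶ Red.Ga S) = 0 := (gaFnHom X).map_zero

theorem gaFn_inv {X : Over S} (x : X ⟶ Red.Ga S) : Red.gaFn x⁻¹ = - Red.gaFn x :=
  (gaFnHom X).map_neg (Additive.ofMul x)

theorem gaFn_div {X : Over S} (x y : X ⟶ Red.Ga S) :
    Red.gaFn (x / y) = Red.gaFn x - Red.gaFn y :=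
  (gaFnHom X).map_sub (Additive.ofMul x) (Additive.ofMul y)

theorem gaFn_pow {X : Over S} (x : X ⟶ Red.Ga S) (n : ℕ) :
    Red.gaFn (x ^ n) = n • Red.gaFn x :=
  (gaFnHom X).map_nsmul n (Additive.ofMul x)

theorem gaFn_zpow {X : Over S} (x : X ⟶ Red.Ga S) (n : ℤ) :
    Red.gaFn (x ^ n) = n • Red.gaFn x :=
  map_zsmul (gaFnHom X) n (Additive.ofMul x)

theorem gaFn_injective {X : Over S} :
    Function.Injective (Red.gaFn : (X ⟶ Red.Ga S) → Γ(X.left, ⊤)) := by
  intro x y h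
  rw [gaFn_eq, gaFn_eq] at h
  exact BC.down_injective (Affine.symFn_injective h)

theorem gaFn_surjective {X : Over S} :
    Function.Surjective (Red.gaFn : (X ⟶ Red.Ga S) → Γ(X.left, ⊤)) := by
  intro a
  obtain ⟨g, hg⟩ := Affine.symFn_surjective (R := ULift.{u} ℤ)
    (W := (Over.map (Limits.IsTerminal.from specULiftZIsTerminal S)).obj X) a
  exact ⟨BC.up _ g, by rw [gaFn_eq, BC.down_up]; exact hg⟩

/-- The point of `𝔾_a` with a given coordinate. -/
noncomputable def gaPt {X : Over S} (a : Γ(X.left, ⊤)) : X ⟶ Red.Ga S :=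
  Function.surjInv gaFn_surjective a

@[simp] theorem gaFn_gaPt {X : Over S} (a : Γ(X.left, ⊤)) : Red.gaFn (gaPt a) = a :=
  Function.surjInv_eq gaFn_surjective a

theorem gaPt_add {X : Over S} (a b : Γ(X.left, ⊤)) : gaPt (a + b) = gaPt a * gaPt b :=
  gaFn_injective (by simp [gaFn_mul])

theorem eq_gaPt {X : Over S} (x : X ⟶ Red.Ga S) {a : Γ(X.left, ⊤)} (h : Red.gaFn x = a) :
    x = gaPt a :=
  gaFn_injective (by simp [h])

end Groth.Agent.Lib.RedPts.Ga
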