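import Groth.Prelude.Def_Red2
import Groth.Agent.Lib.RedPts.BC
import Groth.Agent.Lib.RedPts.Affine
/-!
# Points of `Red.DS S M` and `Red.Gm S`
-/

set_option autoImplicit false
universe u

open CategoryTheory MonoidalCategory CartesianMonoidalCategory MonObj GrpObj AlgebraicGeometry
open Groth.Agent.Lib.RedPts

namespace Groth.Agent.Lib.RedPts.Gm

variable {S : Scheme.{u}} {M N : Type} [AddCommGroup M] [AddCommGroup N]

/-- The value at `m : M` of a point of `D_S(M)`: a global function. -/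
noncomputable def dsFn {X : Over S} (x : X ⟶ Red.DS S M) (m : M) : Γ(X.left, ⊤) :=
  Affine.diagFn (BC.down _ x) m

theorem gmFn_eq {X : Over S} (t : X ⟶ Red.Gm S) : Red.gmFn t = dsFn t 1 := by
  rw [Red.gmFn, dsFn, Affine.diagFn, Points.algHomOf_apply, BC.down_left]
  rfl

theorem dsFn_comp {X X' : Over S} (h : X' ⟶ X) (x : X ⟶ Red.DS S M) (m : M) :
    dsFn (h ≫ x) m = h.left.appTop (dsFn x m) := by
  rw [dsFn, dsFn, BC.down_comp]
  exact Affine.diagFn_comp _ _ _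

theorem dsFn_mul {X : Over S} (x y : X ⟶ Red.DS S M) (m : M) :
    dsFn (x * y) m = dsFn x m * dsFn y m := by
  rw [dsFn, BC.down_mul]
  exact Affine.diagFn_mul _ _ _

theorem dsFn_zero {X : Over S} (x : X ⟶ Red.DS S M) : dsFn x 0 = 1 :=
  Affine.diagFn_zero _

theorem dsFn_add {X : Over S} (x : X ⟶ Red.DS S M) (m n : M) :
    dsFn x (m + n) = dsFn x m * dsFn x n :=
  Affine.diagFn_add _ _ _

theorem dsFn_one {X : Over S} (m : M) : dsFn (1 : X ⟶ Red.DS S M) m = 1 := by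
  rw [dsFn, BC.down_one]
  exact Affine.diagFn_one _

theorem isUnit_dsFn {X : Over S} (x : X ⟶ Red.DS S M) (m : M) : IsUnit (dsFn x m) :=
  IsUnit.of_mul_eq_one (dsFn x (-m)) (by rw [← dsFn_add, add_neg_cancel, dsFn_zero])

theorem dsFn_ext {X : Over S} {x y : X ⟶ Red.DS S M} (h : ∀ m, dsFn x m = dsFn y m) : x = y :=
  BC.down_injective (Affine.diagFn_ext h)

/-- The point of `D_S(M)` with prescribed values. -/
noncomputable def dsPt {X : Over S} (χ : Multiplicative M →* Γ(X.left, ⊤)) : X ⟶ Red.DS S M :=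
  BC.up _ (Affine.diagPt χ)

@[simp] theorem dsFn_dsPt {X : Over S} (χ : Multiplicative M →* Γ(X.left, ⊤)) (m : M) :
    dsFn (dsPt χ) m = χ (Multiplicative.ofAdd m) := by
  rw [dsFn, dsPt, BC.down_up]
  exact Affine.diagFn_diagPt _ _

theorem dsFn_DSmap {X : Over S} (x : X ⟶ Red.DS S N) (φ : M →+ N) (m : M) :
    dsFn (x ≫ Red.DSmap S φ) m = dsFn x (φ m) := by
  rw [dsFn, Red.DSmap, BC.down_map]
  exact Affine.diagFn_diagMap _ _ _

theorem dsFn_pow {X : Over S} (x : X ⟶ Red.DS S M) (n : ℕ) (m : M) :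
    dsFn (x ^ n) m = dsFn x m ^ n := by
  induction n with
  | zero => simp [dsFn_one]
  | succ n ih => rw [pow_succ, dsFn_mul, ih, pow_succ]

theorem dsFn_nsmul {X : Over S} (x : X ⟶ Red.DS S M) (n : ℕ) (m : M) :
    dsFn x (n • m) = dsFn x m ^ n := by
  induction n with
  | zero => simp [dsFn_zero]
  | succ n ih => rw [succ_nsmul, dsFn_add, ih, pow_succ]

/-! ### The multiplicative group -/

theorem gmFn_mul {X : Over S} (x y : X ⟶ Red.Gm S) :
    Red.gmFn (x * y) = Red.gmFn x * Red.gmFn y := by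
  simp only [gmFn_eq, dsFn_mul]

theorem gmFn_one {X : Over S} : Red.gmFn (1 : X ⟶ Red.Gm S) = 1 := by rw [gmFn_eq, dsFn_one]

theorem gmFn_pow {X : Over S} (x : X ⟶ Red.Gm S) (n : ℕ) :
    Red.gmFn (x ^ n) = Red.gmFn x ^ n := by
  simp only [gmFn_eq, dsFn_pow]

theorem gmFn_comp {X X' : Over S} (h : X' ⟶ X) (x : X ⟶ Red.Gm S) :
    Red.gmFn (h ≫ x) = h.left.appTop (Red.gmFn x) := by
  simp only [gmFn_eq, dsFn_comp]

theorem isUnit_gmFn {X : Over S} (x : X ⟶ Red.Gm S) : IsUnit (Red.gmFn x) := by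
  rw [gmFn_eq]; exact isUnit_dsFn x 1

theorem gmFn_mul_gmFn_inv {X : Over S} (x : X ⟶ Red.Gm S) :
    Red.gmFn x * Red.gmFn x⁻¹ = 1 := by rw [← gmFn_mul, mul_inv_cancel, gmFn_one]

theorem gmFn_inv_mul_gmFn {X : Over S} (x : X ⟶ Red.Gm S) :
    Red.gmFn x⁻¹ * Red.gmFn x = 1 := by rw [← gmFn_mul, inv_mul_cancel, gmFn_one]

theorem gmFn_injective {X : Over S} :
    Function.Injective (Red.gmFn : (X ⟶ Red.Gm S) → Γ(X.left, ⊤)) := by
  intro x y h
  rw [gmFn_eq, gmFn_eq] at h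
  refine dsFn_ext fun m => ?_
  induction m with
  | zero => simp [dsFn_zero]
  | succ n ih => rw [dsFn_add, dsFn_add, ih, h]
  | pred n ih =>
    refine (isUnit_dsFn y 1).mul_right_cancel ?_
    rw [← dsFn_add, ← h, ← dsFn_add, sub_add_cancel]
    exact ih

/-- The point of `𝔾_m` with a given coordinate. -/
noncomputable def gmPt {X : Over S} (a : Γ(X.left, ⊤)ˣ) : X ⟶ Red.Gm S :=
  dsPt ((Units.coeHom _).comp (zpowersHom _ a))

@[simp] theorem gmFn_gmPt {X : Over S} (a : Γ(X.left, ⊤)ˣ) : Red.gmFn (gmPt a) = a := by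
  rw [gmFn_eq, gmPt, dsFn_dsPt]
  simp

theorem exists_gmFn_eq {X : Over S} {a : Γ(X.left, ⊤)} (ha : IsUnit a) :
    ∃ x : X ⟶ Red.Gm S, Red.gmFn x = a :=
  ⟨gmPt ha.unit, by simp⟩

theorem gmFn_chi {X : Over S} (x : X ⟶ Red.DS S M) (m : M) :
    Red.gmFn (x ≫ Red.chi S m) = dsFn x m := by
  rw [gmFn_eq, Red.chi, dsFn_DSmap]
  simp

theorem chi_zero {X : Over S} (x : X ⟶ Red.DS S M) : x ≫ Red.chi S (0 : M) = 1 :=
  gmFn_injective (by simp [gmFn_chi, gmFn_one, dsFn_zero])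

theorem chi_add {X : Over S} (x : X ⟶ Red.DS S M) (m n : M) :
    x ≫ Red.chi S (m + n) = (x ≫ Red.chi S m) * (x ≫ Red.chi S n) :=
  gmFn_injective (by simp [gmFn_chi, gmFn_mul, dsFn_add])

theorem η_eq_one (G : Over S) [GrpObj G] : η[G] = (1 : 𝟙_ (Over S) ⟶ G) := by
  simp [Hom.one_def]

theorem μ_eq_mul (G : Over S) [GrpObj G] : μ[G] = (fst G G * snd G G : G ⊗ G ⟶ G) := by
  simp [Hom.mul_def]

theorem tensorHom_μ {X Y G : Over S} [GrpObj G] (f : X ⟶ G) (g : Y ⟶ G) :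
    (f ⊗ₘ g) ≫ μ[G] = (fst X Y ≫ f) * (snd X Y ≫ g) := by
  rw [Hom.mul_def, lift_fst_comp_snd_comp]

instance isMonHom_DSmap (φ : M →+ N) : IsMonHom (Red.DSmap S φ) where
  one_hom := by
    refine dsFn_ext fun m => ?_
    rw [dsFn_DSmap, η_eq_one, η_eq_one, dsFn_one, dsFn_one]
  mul_hom := by
    refine dsFn_ext fun m => ?_
    rw [tensorHom_μ, dsFn_DSmap, μ_eq_mul, dsFn_mul, dsFn_mul, dsFn_DSmap, dsFn_DSmap]

instance isMonHom_chi (m : M) : IsMonHom (Red.chi S m) := isMonHom_DSmap _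

end Groth.Agent.Lib.RedPts.Gm
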